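import Cfsg.Agent.H69.OmegaTwelve.BlocksTwo

/-!
Three four-dimensional blocks of minus type, characteristic two: an Eichler element with centre outside all
blocks and vector not componentwise proportional to it yields one with centre inside a block.
-/

set_option autoImplicit false

namespace Cfsg.Agent.H69.OmegaTwelve

open QuadraticMap Module Cfsg.Agent.Orthogonal
open Cfsg.Agent.H98.SubfieldOrth Cfsg.Agent.H98.OrthDecomp

variable {F V : Type*} [Field F] [Finite F] [AddCommGroup V] [Module F V] [FiniteDimensional F V]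
  {Q : QuadraticForm F V} {D : Fin 3 → Submodule F V} {X : Subgroup (O Q)}

namespace BDec

variable (H : BDec Q D)
include H

omit [FiniteDimensional F V] [Finite F] in
theorem add_self (x : V) : x + x = 0 := by rw [← two_smul F x, H.two, zero_smul]

omit [FiniteDimensional F V] [Finite F] in
theorem polar_self_zero (x : V) : polar Q x x = 0 := by rw [polar_self', H.two, zero_mul]

/-- A singular vector of a block orthogonal to `p`, with prescribed pairing against `q` up to being nonzero. -/
theorem exists_sing_orth {l : Fin 3} {p q : V} (hp : p ∈ D l) (hq : q ∈ D l) (hA : Q p ≠ 0) (hpq : polar Q p q = 0)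
    (hqp : q ∉ Submodule.span F {p}) :
    ∃ u ∈ D l, u ≠ 0 ∧ Q u = 0 ∧ polar Q p u = 0 ∧ polar Q q u ≠ 0 := by
  obtain ⟨x, hx, hpx, hqx⟩ : ∃ x ∈ D l, polar Q p x = 0 ∧ polar Q q x ≠ 0 := by
    by_contra hc
    push Not at hc
    have hmem : (⟨q, hq⟩ : D l) ∈ perp (restr Q (D l)) (perp (restr Q (D l)) (Submodule.span F {⟨p, hp⟩})) := by
      intro x hx
      rw [polar_restr, polar_comm]
      refine hc x x.2 ?_
      have := (mem_perp_span_singleton (restr Q (D l))).1 hx
      rwa [polar_restr] at this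
    rw [(H.nd l).perp_perp] at hmem
    obtain ⟨c, hc'⟩ := Submodule.mem_span_singleton.1 hmem
    exact hqp (Submodule.mem_span_singleton.2 ⟨c, congrArg Subtype.val hc'⟩)
  obtain ⟨r, hr⟩ := isSquare_of_two_eq_zero H.two (Q x / Q p)
  have hpol : polar Q q (x + r • p) = polar Q q x := by
    rw [polar_add_right, polar_smul_right', polar_comm (⇑Q) q p, hpq, mul_zero, add_zero]
  refine ⟨x + r • p, (D l).add_mem hx ((D l).smul_mem _ hp), fun e => hqx ?_, ?_, ?_, by rwa [hpol]⟩
  · rw [← hpol, e, polar_zero_right]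
  · rw [map_add_polar, qmap_smul, polar_smul_right', polar_comm (⇑Q) x p, hpx, mul_zero, add_zero, pow_two,
      ← hr, div_mul_cancel₀ _ hA]
    linear_combination Q x * H.two
  · rw [polar_add_right, polar_smul_right', hpx, H.polar_self_zero]; ring

variable (hX : Over D X)
include hX

/-- A singular vector of a block among the vectors of a centre outside it. -/
theorem goal_of_mem {a u : V} (ha : Wide D a) {l : Fin 3} (hu : u ∈ D l) (hu0 : u ≠ 0) (hQu : Q u = 0)
    (h : SInF X a u) : Goal D X := ⟨l, u, a, hu, hu0, hQu, ha l, h.swap hQu⟩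

/-- A nonsingular vector in another block: two conjugate root elements multiply to one with centre in a block. -/
theorem goal_of_unit {a z : V} {l i : Fin 3} (hil : i ≠ l) (hz : z ∈ D l) (hQz : Q z = 1) (h : SInF X a z)
    (hai : Q (H.pr i a) ≠ 0) (hne : H.pr l (a + z) ≠ 0) : Goal D X := by
  obtain ⟨x, hxi, hax⟩ : ∃ x ∈ D i, polar Q (H.pr i a) x = 1 := by
    obtain ⟨x, hx⟩ := (H.nd i).exists_polar_eq (x := ⟨_, H.pr_mem i a⟩)
      (fun e => hai (by rw [show H.pr i a = 0 from congrArg Subtype.val e, map_zero])) 1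
    rw [polar_restr] at hx
    exact ⟨x, x.2, hx⟩
  -- a singular vector orthogonal to the component
  obtain ⟨y, hy, hay, hyn⟩ : ∃ y ∈ D i, polar Q (H.pr i a) y = 0 ∧ y ∉ Submodule.span F {H.pr i a} := by
    by_contra hc
    push Not at hc
    have hle : D i ⊓ perp Q (Submodule.span F {H.pr i a}) ≤ Submodule.span F {H.pr i a} :=
      fun y hy => hc y hy.1 ((mem_perp_span_singleton Q).1 hy.2)
    have hne' : H.pr i a ≠ 0 := fun e => hai (by rw [e, map_zero])
    have h1 := Submodule.finrank_mono hle
    rw [finrank_span_singleton hne'] at h1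
    have h2 := Submodule.finrank_sup_add_finrank_inf_eq (D i) (perp Q (Submodule.span F {H.pr i a}))
    have h3 := Submodule.finrank_le (D i ⊔ perp Q (Submodule.span F {H.pr i a}))
    have h4 := H.nQ.finrank_perp_singleton hne'
    have := H.rk i
    omega
  obtain ⟨u, hu, hu0, hQu, hau, -⟩ := H.exists_sing_orth (H.pr_mem i a) hy hai hay hyn
  -- a vector orthogonal to `u` pairing with the component to one
  obtain ⟨w, hw, huw, haw⟩ : ∃ w ∈ D i, polar Q u w = 0 ∧ polar Q (H.pr i a) w = 1 := by
    obtain ⟨f, hfi, -, huf, -⟩ := exists_hyp_at H.nQ (H.nd i) hu hu0 hQu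
    -- correct the partner
    by_cases hf : polar Q u x = 0
    · exact ⟨x, hxi, hf, hax⟩
    · have hd : ∃ d ∈ D i, polar Q u d = 0 ∧ polar Q (H.pr i a) d ≠ 0 := by
        by_contra hc
        push Not at hc
        have hmem : (⟨_, H.pr_mem i a⟩ : D i) ∈
            perp (restr Q (D i)) (perp (restr Q (D i)) (Submodule.span F {⟨u, hu⟩})) := by
          intro d hd
          rw [polar_restr, polar_comm]
          refine hc d d.2 ?_
          have := (mem_perp_span_singleton (restr Q (D i))).1 hd
          rwa [polar_restr] at this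
        rw [(H.nd i).perp_perp] at hmem
        obtain ⟨c, hc'⟩ := Submodule.mem_span_singleton.1 hmem
        refine hai ?_
        rw [← show c • u = H.pr i a from congrArg Subtype.val hc', qmap_smul, hQu, mul_zero]
      obtain ⟨d, hd, hud, had⟩ := hd
      exact ⟨(polar Q (H.pr i a) d)⁻¹ • d, (D i).smul_mem _ hd, by rw [polar_smul_right', hud, mul_zero],
        by rw [polar_smul_right', inv_mul_cancel₀ had]⟩
  have hua : polar Q u a = 0 := by rw [← H.polar_pr hu, polar_comm, hau]
  have hwa : polar Q w a = 1 := by rw [← H.polar_pr hw, polar_comm, haw]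
  have hzu : polar Q z u = 0 := H.orth l i hil.symm z hz u hu
  have hwide : a + z ∉ D i := fun hm => hne (H.pr_other hm hil.symm)
  refine ⟨i, u, a + z, hu, hu0, hQu, hwide, fun c => ?_⟩
  have hcw : polar Q u (c • w) = 0 := by rw [polar_smul_right', huw, mul_zero]
  have hs := H.sie_mem_block hX hu ((D i).smul_mem c hw) hQu hcw H.five_le
  have hsa : (sie u (c • w) hQu hcw : V ≃ₗ[F] V) a = a + c • u := by
    rw [sie_app, hua, polar_smul_left', hwa]; simp
  have hsz : (sie u (c • w) hQu hcw : V ≃ₗ[F] V) z = z :=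
    sie_fix' hQu hcw (by rw [polar_comm]; exact hzu)
      (by rw [polar_smul_left', H.orth i l hil w hw z hz, mul_zero])
  obtain ⟨ha1, hz1, hP⟩ := h.sIn
  obtain ⟨ha2, hz2, hP'⟩ := (h.conj hs).congr hsa hsz |>.sIn
  have huaz : polar Q u (c • (a + z)) = 0 := by
    rw [polar_smul_right', polar_add_right, hua, polar_comm (⇑Q) u z, hzu]; simp
  refine ⟨hQu, huaz, ?_⟩
  have e : sie u (c • (a + z)) hQu huaz = sie a z ha1 hz1 * sie (a + c • u) z ha2 hz2 := by
    have hsubF : ∀ x y : F, x - y = x + y := fun x y => by linear_combination -y * H.two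
    have hsubV : ∀ x y : V, x - y = x + y := fun x y => by
      rw [sub_eq_add_neg, neg_eq_of_add_eq_zero_left (H.add_self y)]
    have e0 : ∀ v : V, (sie (a + c • u) z ha2 hz2 : V ≃ₗ[F] V) v =
        v + (polar Q z v + (polar Q a v + c * polar Q u v)) • (a + c • u) + (polar Q a v + c * polar Q u v) • z := by
      intro v
      rw [sie_app, hQz, one_mul, polar_add_left, polar_smul_left', hsubF, hsubV]
    refine O.ext_app fun v => ?_
    have hα : polar Q a ((sie (a + c • u) z ha2 hz2 : V ≃ₗ[F] V) v) = polar Q a v := by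
      rw [e0]
      simp only [polar_add_right, polar_smul_right', H.polar_self_zero, hz1, polar_comm (⇑Q) a u, hua]
      ring
    have hβ : polar Q z ((sie (a + c • u) z ha2 hz2 : V ≃ₗ[F] V) v) = polar Q z v := by
      rw [e0]
      simp only [polar_add_right, polar_smul_right', H.polar_self_zero, polar_comm (⇑Q) z a, hz1, hzu]
      ring
    rw [Subgroup.coe_mul, mul_app, sie_app ha1 hz1, hα, hβ, hQz, one_mul, e0, sie_app hQu huaz, polar_smul_left',
      polar_add_left, qmap_smul, map_add_polar, h.singular, hQz, hz1]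
    simp only [hsubF, hsubV]
    match_scalars <;> first
      | ring1
      | linear_combination (-(polar Q z v + polar Q a v)) * H.two
      | linear_combination (-(polar Q a v)) * H.two
      | linear_combination (polar Q z v + polar Q a v) * H.two
      | linear_combination (polar Q a v) * H.two
  rw [e]
  exact X.mul_mem hP hP'

/-- A component not proportional to the vector gives a root element with centre in a block, or a very
special configuration over the field with two elements. -/
theorem component_cases {a b : V} (ha : Wide D a) (h : SInF X a b) (l : Fin 3)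
    (hb : H.pr l b ∉ Submodule.span F {H.pr l a}) :
    Goal D X ∨ ((∀ c : F, c ≠ 0 → c = 1) ∧ Q (H.pr l a) = 1 ∧ polar Q (H.pr l a) b = 1 ∧ Q (H.pr l b) = 0) := by
  by_cases hA : Q (H.pr l a) = 0
  · exact Or.inl (H.goal_of_singular hX ha h l hA hb)
  set p := H.pr l a with hp
  have hpD : p ∈ D l := H.pr_mem l a
  -- the vectors obtained from a singular vector orthogonal to the component
  have key : ∀ u ∈ D l, Q u = 0 → polar Q p u = 0 → ∀ c : F,
      SInF X a ((c * polar Q p b - c ^ 2 * Q p * polar Q u b) • u - (c * polar Q u b) • p) := by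
    intro u hu hQu hpu c
    have hua : polar Q u a = 0 := by rw [← H.polar_pr hu, polar_comm]; exact hpu
    have hpa : polar Q p a = 0 := by rw [← H.polar_pr hpD]; exact H.polar_self_zero p
    have hup : polar Q u (c • p) = 0 := by rw [polar_smul_right', polar_comm, hpu, mul_zero]
    refine (h.diff (H.sie_mem_block hX hu ((D l).smul_mem c hpD) hQu hup H.five_le)
      (sie_fix' hQu hup hua (by rw [polar_smul_left', hpa, mul_zero]))).congr rfl ?_
    rw [sie_app, polar_smul_left', qmap_smul, smul_smul]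
    match_scalars <;> ring
  -- either outcome for one singular vector
  have hone : ∀ u ∈ D l, u ≠ 0 → Q u = 0 → polar Q p u = 0 → polar Q u b = 0 → polar Q p b ≠ 0 → Goal D X := by
    intro u hu hu0 hQu hpu hub hμ
    refine H.goal_of_mem hX ha hu hu0 hQu (((key u hu hQu hpu 1).smul (polar Q p b)⁻¹).congr rfl ?_)
    rw [hub, mul_zero, mul_zero, sub_zero, one_mul, zero_smul, sub_zero, smul_smul, inv_mul_cancel₀ hμ, one_smul]
  have hbig : ∀ u ∈ D l, u ≠ 0 → Q u = 0 → polar Q p u = 0 → polar Q u b ≠ 0 →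
      ∀ c : F, c ≠ 0 → c ≠ 1 → Goal D X := by
    intro u hu hu0 hQu hpu hub c hc0 hc1
    have hd : c * (1 - c) * (Q p * polar Q u b) ≠ 0 :=
      mul_ne_zero (mul_ne_zero hc0 (sub_ne_zero.2 (Ne.symm hc1))) (mul_ne_zero hA hub)
    refine H.goal_of_mem hX ha hu hu0 hQu
      ((((key u hu hQu hpu c).sub ((key u hu hQu hpu 1).smul c)).smul (c * (1 - c) * (Q p * polar Q u b))⁻¹).congr
        rfl ?_)
    rw [show ((c * polar Q p b - c ^ 2 * Q p * polar Q u b) • u - (c * polar Q u b) • p) -
        c • ((1 * polar Q p b - 1 ^ 2 * Q p * polar Q u b) • u - (1 * polar Q u b) • p) =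
        (c * (1 - c) * (Q p * polar Q u b)) • u by module, smul_smul, inv_mul_cancel₀ hd, one_smul]
  by_cases hμ : polar Q p b = 0
  · have hpb : polar Q p (H.pr l b) = 0 := by rw [H.polar_pr hpD]; exact hμ
    obtain ⟨u, hu, hu0, hQu, hpu, hub⟩ := H.exists_sing_orth hpD (H.pr_mem l b) hA hpb hb
    rw [polar_comm, H.polar_pr hu] at hub
    by_cases hc : ∃ c : F, c ≠ 0 ∧ c ≠ 1
    · obtain ⟨c, hc0, hc1⟩ := hc
      exact Or.inl (hbig u hu hu0 hQu hpu hub c hc0 hc1)
    push Not at hc
    have hA1 := hc _ hA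
    have hub1 := hc _ hub
    -- a unit vector among the vectors
    have hzs : SInF X a (u + p) := by
      refine (key u hu hQu hpu 1).congr rfl ?_
      rw [hμ, hA1, hub1]
      match_scalars <;> linear_combination -H.two
    have hQz : Q (u + p) = 1 := by rw [map_add_polar, hQu, hA1, polar_comm (⇑Q) u p, hpu]; ring
    obtain ⟨i, hil, hi⟩ : ∃ i, i ≠ l ∧ Q (H.pr i a) ≠ 0 := by
      by_contra hcon
      push Not at hcon
      refine hA ?_
      have h0 := H.q_sum a
      rwa [h.singular, Finset.sum_eq_single l (fun i _ hi => hcon i hi) (fun e => absurd (Finset.mem_univ l) e),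
        eq_comm] at h0
    refine Or.inl (H.goal_of_unit hX hil ((D l).add_mem hu hpD) hQz hzs hi ?_)
    rw [map_add, map_add, H.pr_self hu, H.pr_self hpD, ← hp, add_left_comm, H.add_self, add_zero]
    exact hu0
  by_cases hg : ∃ u ∈ D l, u ≠ 0 ∧ Q u = 0 ∧ polar Q p u = 0 ∧ polar Q u b = 0
  · obtain ⟨u, hu, hu0, hQu, hpu, hub⟩ := hg
    exact Or.inl (hone u hu hu0 hQu hpu hub hμ)
  push Not at hg
  by_cases hc : ∃ c : F, c ≠ 0 ∧ c ≠ 1
  · obtain ⟨c, hc0, hc1⟩ := hc
    obtain ⟨u, hu, hu0, hQu, hpu⟩ : ∃ u ∈ D l, u ≠ 0 ∧ Q u = 0 ∧ polar Q p u = 0 := by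
      obtain ⟨u, ⟨hu, hup⟩, hu0, hQu⟩ := exists_singular_of_three (Q := Q)
        (D l ⊓ perp Q (Submodule.span F {p})) (by
          have h1 := H.nQ.finrank_perp_singleton (fun e => hA (by rw [e, map_zero]) : p ≠ 0)
          have h2 := Submodule.finrank_sup_add_finrank_inf_eq (D l) (perp Q (Submodule.span F {p}))
          have h3 := Submodule.finrank_le (D l ⊔ perp Q (Submodule.span F {p}))
          have := H.rk l
          omega)
      exact ⟨u, hu, hu0, hQu, (mem_perp_span_singleton Q).1 hup⟩
    exact Or.inl (hbig u hu hu0 hQu hpu (hg u hu hu0 hQu hpu) c hc0 hc1)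
  push Not at hc
  refine Or.inr ⟨hc, hc _ hA, hc _ hμ, ?_⟩
  -- otherwise the plane of the two components would leave an anisotropic complement
  by_contra hB
  set q := H.pr l b with hq
  have hqD : q ∈ D l := H.pr_mem l b
  have hA1 := hc _ hA
  have hB1 := hc _ hB
  have hpq : polar Q p q = 1 := by rw [hq, H.polar_pr hpD]; exact hc _ hμ
  have hno : ∀ u ∈ D l, polar Q p u = 0 → polar Q q u = 0 → Q u = 0 → u = 0 := by
    intro u hu hpu hqu hQu
    by_contra hu0
    exact hg u hu hu0 hQu hpu (by rw [← H.polar_pr hu, ← hq, polar_comm]; exact hqu)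
  have hP : 2 ≤ finrank F ↥(D l ⊓ perp Q (Submodule.span F {p, q})) := by
    have h1 := H.nQ.finrank_add_perp (Submodule.span F ({p, q} : Set V))
    have h2 : finrank F (Submodule.span F ({p, q} : Set V)) ≤ 2 := by
      classical
      refine (finrank_span_le_card ({p, q} : Set V)).trans ?_
      rw [Set.toFinset_insert, Set.toFinset_singleton]
      exact Finset.card_le_two
    have h3 := Submodule.finrank_sup_add_finrank_inf_eq (D l) (perp Q (Submodule.span F {p, q}))
    have h4 := Submodule.finrank_le (D l ⊔ perp Q (Submodule.span F {p, q}))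
    have := H.rk l
    omega
  obtain ⟨x, hxP, hx0⟩ := Submodule.exists_mem_ne_zero_of_ne_bot (p := D l ⊓ perp Q (Submodule.span F {p, q}))
    fun e => by rw [e, finrank_bot] at hP; omega
  obtain ⟨y, hyP, hyx⟩ := SetLike.not_le_iff_exists.1
    (show ¬ D l ⊓ perp Q (Submodule.span F {p, q}) ≤ Submodule.span F {x} from fun e => by
      have := Submodule.finrank_mono e
      rw [finrank_span_singleton hx0] at this
      omega)
  obtain ⟨hxD, hx⟩ := hxP
  obtain ⟨hyD, hy⟩ := hyP
  replace hx := (mem_perp_span_pair Q).1 hx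
  replace hy := (mem_perp_span_pair Q).1 hy
  have hQx : Q x = 1 := hc _ fun e => hx0 (hno x hxD hx.1 hx.2 e)
  have hy0 : y ≠ 0 := fun e => hyx (e ▸ Submodule.zero_mem _)
  have hQy : Q y = 1 := hc _ fun e => hy0 (hno y hyD hy.1 hy.2 e)
  have hxy : polar Q x y = 1 := hc _ fun e => hyx (by
    have h0 := hno (x + y) ((D l).add_mem hxD hyD) (by rw [polar_add_right, hx.1, hy.1, add_zero])
      (by rw [polar_add_right, hx.2, hy.2, add_zero]) (by rw [map_add_polar, hQx, hQy, e]; linear_combination H.two)
    rw [eq_neg_of_add_eq_zero_right h0]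
    exact Submodule.neg_mem _ (Submodule.mem_span_singleton_self x))
  have hQ1 : Q (p + x) = 0 := by rw [map_add_polar, hA1, hQx, hx.1]; linear_combination H.two
  have hQ2 : Q (q + y) = 0 := by rw [map_add_polar, hB1, hQy, hy.2]; linear_combination H.two
  have h12 : polar Q (p + x) (q + y) = 0 := by
    rw [polar_add_left, polar_add_right, polar_add_right, hpq, hy.1, polar_comm (⇑Q) x q, hx.2, hxy]
    linear_combination H.two
  have hp1 : polar Q p (p + x) = 0 := by rw [polar_add_right, H.polar_self_zero, hx.1, add_zero]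
  have h10 : p + x ≠ 0 := fun e => by
    have := congrArg (polar Q q) e
    rw [polar_add_right, polar_comm (⇑Q) q p, hpq, hx.2, add_zero, polar_zero_right] at this
    exact one_ne_zero this
  obtain ⟨c, hc'⟩ := Submodule.mem_span_singleton.1
    (H.noPlane l _ ((D l).add_mem hpD hxD) _ ((D l).add_mem hqD hyD) hQ1 hQ2 h12 h10)
  have := congrArg (polar Q p) hc'
  rw [polar_smul_right', hp1, mul_zero, polar_add_right, hpq, hy.1, add_zero] at this
  exact zero_ne_one this

/-- A component not proportional to the vector. -/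
theorem goal_of_component {a b : V} (ha : Wide D a) (h : SInF X a b) (l : Fin 3)
    (hb : H.pr l b ∉ Submodule.span F {H.pr l a}) : Goal D X := by
  by_contra hgoal
  obtain ⟨hF, hal, hμl, hbl⟩ := (H.component_cases hX ha h l hb).resolve_left hgoal
  -- in every block
  have hall : ∀ r, (Q (H.pr r a) = 1 ∧ polar Q (H.pr r a) b = 1 ∧ Q (H.pr r b) = 0) ∨
      (polar Q (H.pr r a) b = 0 ∧ (Q (H.pr r b) = 0 ∨ Q (H.pr r a) = 1)) := by
    intro r
    by_cases hr : H.pr r b ∈ Submodule.span F {H.pr r a}
    · obtain ⟨c, hc⟩ := Submodule.mem_span_singleton.1 hr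
      refine Or.inr ⟨by rw [← H.polar_pr (H.pr_mem r a), ← hc, polar_smul_right', H.polar_self_zero, mul_zero], ?_⟩
      by_cases hra : Q (H.pr r a) = 0
      · exact Or.inl (by rw [← hc, qmap_smul, hra, mul_zero])
      · exact Or.inr (hF _ hra)
    · exact Or.inl ((H.component_cases hX ha h r hr).resolve_left hgoal).2
  have hsA : ∀ r, Q (H.pr r a) = 0 ∨ Q (H.pr r a) = 1 := fun r =>
    (eq_or_ne (Q (H.pr r a)) 0).imp_right (hF _)
  have h0 : polar Q a b = 0 := h.orth
  rw [H.polar_sum] at h0
  simp only [H.polar_pr (H.pr_mem _ a)] at h0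
  have hA0 := H.q_sum a
  rw [h.singular] at hA0
  have hsome : ¬ (polar Q (H.pr 0 a) b = 0 ∧ polar Q (H.pr 1 a) b = 0 ∧ polar Q (H.pr 2 a) b = 0) := by
    rintro ⟨e0, e1, e2⟩
    have key : ∀ r : Fin 3, polar Q (H.pr r a) b = 0 := by
      intro r
      rcases (show r = 0 ∨ r = 1 ∨ r = 2 by omega) with rfl | rfl | rfl
      exacts [e0, e1, e2]
    exact one_ne_zero (hμl.symm.trans (key l))
  have hbQ : Q b = 0 := by
    rw [H.q_sum b]
    simp only [Fin.sum_univ_three] at h0 hA0 ⊢
    have h2 := H.two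
    have h01 : (0 : F) ≠ 1 := zero_ne_one
    rcases hall 0 with ⟨p0, m0, b0⟩ | ⟨m0, b0 | p0⟩ <;> rcases hall 1 with ⟨p1, m1, b1⟩ | ⟨m1, b1 | p1⟩ <;>
      rcases hall 2 with ⟨p2, m2, b2⟩ | ⟨m2, b2 | p2⟩
    all_goals first
      | (rw [b0, b1, b2]; ring1)
      | (exfalso; apply hsome; refine ⟨?_, ?_, ?_⟩ <;> assumption)
      | (rw [p0, p1, p2] at hA0; exact absurd (show (0 : F) = 1 by linear_combination hA0 + h2) h01)
      | (rw [m0, m1, m2] at h0; exact absurd (show (0 : F) = 1 by linear_combination -h0) h01)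
      | (rw [m0, m1, m2] at h0; exact absurd (show (0 : F) = 1 by linear_combination h0 + h2) h01)
      | (rw [m0, m1, m2] at h0; exact absurd (show (0 : F) = 1 by linear_combination -h0 + h2) h01)
  -- the vector as a centre
  have hblD : H.pr l b ∈ D l := H.pr_mem l b
  have hbl0 : H.pr l b ≠ 0 := fun e => hb (e ▸ Submodule.zero_mem _)
  have hl1 : polar Q (H.pr l a) (H.pr l b) = 1 := by rw [H.polar_pr (H.pr_mem l a)]; exact hμl
  by_cases hw : Wide D b
  · refine hgoal (H.goal_of_singular hX hw (h.swap hbQ) l hbl fun hm => ?_)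
    obtain ⟨c, hc⟩ := Submodule.mem_span_singleton.1 hm
    rw [← hc, polar_smul_left', H.polar_self_zero, mul_zero] at hl1
    exact zero_ne_one hl1
  · simp only [Wide, not_forall, not_not] at hw
    obtain ⟨i, hi⟩ := hw
    exact hgoal ⟨i, b, a, hi, fun e => hbl0 (by rw [e, map_zero]), hbQ, ha i, h.swap hbQ⟩

end BDec

end Cfsg.Agent.H69.OmegaTwelve
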