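import Cfsg.Agent.H69.OmegaTwelve.BlocksGoal

/-!
Maximality of the stabiliser of a decomposition into three four-spaces of minus type, characteristic two.
-/

set_option autoImplicit false

namespace Cfsg.Agent.H69.OmegaTwelve

open QuadraticMap Module Cfsg.Agent.Orthogonal
open Cfsg.Agent.H98.SubfieldOrth Cfsg.Agent.H98.OrthDecomp

variable {F : Type*} [Field F] [Fintype F] {ι : Type} [Fintype ι] [DecidableEq ι]
  {Q : QuadraticForm F (ι → F)} {D : Fin 3 → Submodule F (ι → F)}

theorem BDec.mem_stabilizer (H : BDec Q D) (x : O Q)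
    (h : ∀ i, ∃ j, ∀ v ∈ D i, (x : (ι → F) ≃ₗ[F] (ι → F)) v ∈ D j) :
    H96.om Q x ∈ Cfsg.Geo.decompositionStabilizer D := by
  choose τ hτ using h
  have hmap : ∀ i, (D i).map ((x : (ι → F) ≃ₗ[F] (ι → F)) : (ι → F) →ₗ[F] (ι → F)) = D (τ i) := fun i =>
    Submodule.eq_of_le_of_finrank_eq (by rintro _ ⟨v, hv, rfl⟩; exact hτ i v hv)
      (by rw [LinearEquiv.finrank_map_eq, H.rk, H.rk])
  have hinj : Function.Injective τ := fun i j e => by
    by_contra hne
    have hm : D i = D j := Submodule.map_injective_of_injective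
      (x : (ι → F) ≃ₗ[F] (ι → F)).injective ((hmap i).trans ((congrArg D e).trans (hmap j).symm))
    obtain ⟨v, hv, hv0⟩ := (Submodule.ne_bot_iff _).1 (H.pos i)
    exact hv0 ((H.pr_self hv).symm.trans (H.pr_other (hm ▸ hv) hne))
  refine ⟨Equiv.ofBijective τ (Finite.injective_iff_bijective.1 hinj), fun i => ?_⟩
  rw [H96.om_toLin']
  exact hmap i

/-- Maximality for three four-dimensional blocks of minus type in characteristic two. -/
theorem isMaximalIn_blocks_two (H : BDec Q D) :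
    Cfsg.Geo.IsMaximalIn (Cfsg.Geo.omegaGL ⇑Q) (Cfsg.Geo.decompositionStabilizer D ⊓ Cfsg.Geo.omegaGL ⇑Q) := by
  have hn := H.five_le
  refine H98.OrthMax.isMaximalIn_omega H.nQ hn _ ?_ fun X hXS ⟨g, hgX, hgS⟩ => ?_
  · set i : Fin 3 := ⟨0, by omega⟩
    set j : Fin 3 := ⟨1, by omega⟩
    have hij : i ≠ j := by simp [i, j]
    obtain ⟨u, hu, hu0, hqu⟩ := H.exists_sing i
    obtain ⟨v, hv, hv0⟩ := (Submodule.ne_bot_iff _).1 (H.pos j)
    obtain ⟨f, hfi, hf, huf, -⟩ := exists_hyp_at H.nQ (H.nd i) hu hu0 hqu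
    have huv : polar Q u v = 0 := H.orth i j hij u hu v hv
    refine ⟨sie u v hqu huv, H98.OrthMax.sie_mem_commutator H.nQ hn hqu huv, fun hS => ?_⟩
    obtain ⟨τ, hτ⟩ := hS
    have hm : (sie u v hqu huv : (ι → F) ≃ₗ[F] (ι → F)) f ∈ D (τ i) := by
      rw [← hτ i, H96.om_toLin']; exact Submodule.mem_map_of_mem hfi
    rw [sie_app, huf, one_smul, H.orth j i hij.symm v hv f hfi] at hm
    refine H.wide_of_two hij ?_ ?_ (τ i) hm
    · rw [map_sub, map_add, map_smul, H.pr_self hfi, H.pr_self hu, H.pr_other hv hij, sub_zero]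
      intro e
      refine one_ne_zero (α := F) ?_
      have := congrArg (polar Q u) e
      rwa [polar_add_right, polar_smul_right', huf, polar_self', hqu, polar_zero_right, mul_zero, mul_zero,
        add_zero] at this
    · rw [map_sub, map_add, map_smul, H.pr_other hfi hij.symm, H.pr_other hu hij.symm, H.pr_self hv, smul_zero,
        add_zero, zero_sub, neg_ne_zero]
      exact hv0
  have hX : Over D X := ⟨fun s hs h => hXS s hs (H.mem_stabilizer s h)⟩
  by_contra hnot
  have hgoal : ¬Goal D X := fun h => hnot (H.sieGroup_le_of_goal hX h)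
  refine hgS (H.mem_stabilizer g fun i => ?_)
  have key : ∀ u ∈ D i, u ≠ 0 → Q u = 0 → ∃ j, ∀ w ∈ D i, polar Q u w = 0 →
      (g : (ι → F) ≃ₗ[F] (ι → F)) w ∈ D j := by
    intro u hu hu0 hqu
    have hin : ∀ w ∈ D i, polar Q u w = 0 →
        SInF X ((g : (ι → F) ≃ₗ[F] (ι → F)) u) ((g : (ι → F) ≃ₗ[F] (ι → F)) w) :=
      fun w hw huw => (H.sInF_block hX hu hw hqu huw hn).conj hgX
    by_cases hw : Wide D ((g : (ι → F) ≃ₗ[F] (ι → F)) u)
    · exfalso
      obtain ⟨f, -, -, -, C, hC, hCn, hCd, hCp, -⟩ := exists_hyp_at H.nQ (H.nd i) hu hu0 hqu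
      have : Nontrivial C := Module.finrank_pos_iff.1 (show 0 < finrank F C by have := H.rk i; omega)
      obtain ⟨⟨x, hx⟩, hx0⟩ := exists_ne (0 : C)
      obtain ⟨⟨y, hy⟩, hxy⟩ := hCn.exists_polar_ne hx0
      rw [polar_restr] at hxy
      refine hxy ?_
      by_contra hne
      -- both images would be componentwise proportional to the centre
      have hprop : ∀ w ∈ C, ∀ l, H.pr l ((g : (ι → F) ≃ₗ[F] (ι → F)) w) ∈
          Submodule.span F {H.pr l ((g : (ι → F) ≃ₗ[F] (ι → F)) u)} := fun w hwC l => by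
        by_contra hb
        exact hgoal (H.goal_of_component hX hw (hin w (hC hwC) (hCp w hwC).1) l hb)
      apply hne
      rw [← O.polar_app g, H.polar_sum]
      refine Finset.sum_eq_zero fun l _ => ?_
      obtain ⟨c, hc⟩ := Submodule.mem_span_singleton.1 (hprop x hx l)
      obtain ⟨c', hc'⟩ := Submodule.mem_span_singleton.1 (hprop y hy l)
      rw [← hc, ← hc', polar_smul_left', polar_smul_right', H.polar_self_zero, mul_zero, mul_zero]
    · simp only [Wide, not_forall, not_not] at hw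
      obtain ⟨j, hj⟩ := hw
      refine ⟨j, fun w hwi huw => ?_⟩
      by_contra hc
      exact hgoal ⟨j, _, _, hj, fun e => hu0 ((g : (ι → F) ≃ₗ[F] (ι → F)).map_eq_zero_iff.1 e),
        by rw [O.map_app]; exact hqu, hc, hin w hwi huw⟩
  obtain ⟨u₀, hu₀, hu₀0, hq₀⟩ := H.exists_sing i
  obtain ⟨j₀, hj₀⟩ := key u₀ hu₀ hu₀0 hq₀
  refine ⟨j₀, fun v hv => ?_⟩
  have hle : D i ≤ (D j₀).comap ((g : (ι → F) ≃ₗ[F] (ι → F)) : (ι → F) →ₗ[F] (ι → F)) := by
    refine le_of_singular (H.nd i) (by rw [H.rk]; omega) _ fun u hu hqu => ?_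
    rcases eq_or_ne u 0 with rfl | hu0
    · exact Submodule.zero_mem _
    obtain ⟨j, hj⟩ := key u hu hu0 hqu
    have huu : polar Q u u = 0 := by rw [polar_self', hqu, mul_zero]
    suffices hjj : j = j₀ from hjj ▸ hj u hu huu
    by_contra hne
    obtain ⟨w, hwi, hw0, h1, h2⟩ : ∃ w ∈ D i, w ≠ 0 ∧ polar Q u₀ w = 0 ∧ polar Q u w = 0 := by
      obtain ⟨w, hw, hw0⟩ := (Submodule.ne_bot_iff (D i ⊓ perp Q (Submodule.span F {u₀, u}))).1 (fun e => by
        have h1 := H.nQ.finrank_add_perp (Submodule.span F ({u₀, u} : Set (ι → F)))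
        have h2 := Submodule.finrank_sup_add_finrank_inf_eq (D i) (perp Q (Submodule.span F {u₀, u}))
        have h3 : finrank F (Submodule.span F ({u₀, u} : Set (ι → F))) ≤ 2 := by
          classical
          refine (finrank_span_le_card ({u₀, u} : Set (ι → F))).trans ?_
          rw [Set.toFinset_insert, Set.toFinset_singleton]
          exact Finset.card_le_two
        rw [e, finrank_bot, H.rk] at h2
        have h4 := Submodule.finrank_le (D i ⊔ perp Q (Submodule.span F {u₀, u}))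
        omega)
      exact ⟨w, hw.1, hw0, ((mem_perp_span_pair Q).1 hw.2).1, ((mem_perp_span_pair Q).1 hw.2).2⟩
    refine hw0 ((g : (ι → F) ≃ₗ[F] (ι → F)).map_eq_zero_iff.1 ?_)
    exact (H.pr_self (hj w hwi h2)).symm.trans (H.pr_other (hj₀ w hwi h1) hne)
  exact hle hv

end Cfsg.Agent.H69.OmegaTwelve
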