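import Cfsg.Agent.H98.OrthDecomp.Main
import Cfsg.Agent.H69.OmegaTwelve.Nondeg

/-!
Orthogonal decompositions into three four-dimensional blocks of minus type, characteristic two: an Eichler
element with centre in one block and vector outside gives all of Ω.
-/

set_option autoImplicit false

namespace Cfsg.Agent.H69.OmegaTwelve

open QuadraticMap Module Cfsg.Agent.Orthogonal
open Cfsg.Agent.H98.SubfieldOrth Cfsg.Agent.H98.OrthDecomp
open Cfsg.Agent.H98.OrthMax (rO_mul_mem perp_invariant)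

variable {F V : Type*} [Field F] [AddCommGroup V] [Module F V]

/-- An orthogonal decomposition into three isometric four-spaces of minus type, in characteristic two. -/
structure BDec (Q : QuadraticForm F V) (D : Fin 3 → Submodule F V) : Prop where
  two : (2 : F) = 0
  rk : ∀ i, finrank F (D i) = 4
  noPlane : ∀ i, ∀ a ∈ D i, ∀ b ∈ D i, Q a = 0 → Q b = 0 → polar Q a b = 0 → a ≠ 0 → b ∈ Submodule.span F {a}
  nd : ∀ i, Nondeg (F := F) (V := D i) (restr Q (D i))
  orth : ∀ i j, i ≠ j → ∀ x ∈ D i, ∀ y ∈ D j, polar Q x y = 0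
  isom : ∀ i j, ∃ e : D i ≃ₗ[F] D j, ∀ w, Q ((e w : D j) : V) = Q (w : V)
  top : iSup D = ⊤
  nQ : Nondeg Q

variable {Q : QuadraticForm F V} {D : Fin 3 → Submodule F V} {X : Subgroup (O Q)}

namespace BDec

variable [FiniteDimensional F V] (H : BDec Q D)
include H

omit [FiniteDimensional F V] in
theorem pos (i : Fin 3) : D i ≠ ⊥ := fun e => by
  have := H.rk i
  rw [e, finrank_bot] at this
  omega

/-- The orthogonal projection onto a block. -/
noncomputable def pr (i : Fin 3) : V →ₗ[F] V := (D i).projection (perp Q (D i)) (H.nQ.isCompl_perp (H.nd i))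

theorem pr_mem (i : Fin 3) (x : V) : H.pr i x ∈ D i := Submodule.projection_apply_mem _ x

theorem pr_self {i : Fin 3} {x : V} (hx : x ∈ D i) : H.pr i x = x := Submodule.projection_apply_of_mem_left _ hx

theorem polar_sub_pr {i : Fin 3} {y : V} (hy : y ∈ D i) (x : V) : polar Q y (x - H.pr i x) = 0 := by
  have h : x - H.pr i x ∈ perp Q (D i) := by
    refine (Submodule.projection_apply_eq_zero_iff (H.nQ.isCompl_perp (H.nd i))).1 ?_
    show H.pr i (x - H.pr i x) = 0
    rw [map_sub, H.pr_self (H.pr_mem i x), sub_self]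
  exact h y hy

theorem polar_pr {i : Fin 3} {y : V} (hy : y ∈ D i) (x : V) : polar Q y (H.pr i x) = polar Q y x := by
  have := H.polar_sub_pr hy x
  rw [polar_sub_right, sub_eq_zero] at this
  exact this.symm

theorem pr_of_perp {i : Fin 3} {x : V} (h : ∀ y ∈ D i, polar Q y x = 0) : H.pr i x = 0 :=
  (Submodule.projection_apply_eq_zero_iff (H.nQ.isCompl_perp (H.nd i))).2 h

theorem pr_other {i j : Fin 3} {x : V} (hx : x ∈ D j) (hij : i ≠ j) : H.pr i x = 0 :=
  H.pr_of_perp fun y hy => H.orth i j hij y hy x hx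

theorem sum_pr (x : V) : ∑ i, H.pr i x = x := by
  refine H.nQ.eq_of_polar fun z => ?_
  have hz : z ∈ iSup D := H.top ▸ Submodule.mem_top
  induction hz using Submodule.iSup_induction' with
  | mem i y hy =>
    rw [polar_comm (⇑Q), polar_comm (⇑Q) x, ← polarBilin_apply', map_sum, Finset.sum_eq_single i]
    · rw [polarBilin_apply']; exact H.polar_pr hy x
    · intro j _ hji
      rw [polarBilin_apply']
      exact H.orth i j hji.symm y hy _ (H.pr_mem j x)
    · exact fun h => absurd (Finset.mem_univ i) h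
  | zero => rw [polar_zero_right, polar_zero_right]
  | add p r _ _ hp hr => rw [polar_add_right, polar_add_right, hp, hr]

theorem ext_pr {x y : V} (h : ∀ i, H.pr i x = H.pr i y) : x = y := by
  rw [← H.sum_pr x, ← H.sum_pr y, Finset.sum_congr rfl fun i _ => h i]

theorem polar_sum (x y : V) : polar Q x y = ∑ i, polar Q (H.pr i x) (H.pr i y) := by
  conv_lhs => rw [← H.sum_pr y, ← polarBilin_apply', map_sum]
  refine Finset.sum_congr rfl fun i _ => ?_
  rw [polarBilin_apply', polar_comm, polar_comm (⇑Q) (H.pr i x), H.polar_pr (H.pr_mem i y)]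

theorem q_sum (x : V) : Q x = ∑ i, Q (H.pr i x) := by
  have key : ∀ s : Finset (Fin 3), Q (∑ i ∈ s, H.pr i x) = ∑ i ∈ s, Q (H.pr i x) := fun s => by
    induction s using Finset.induction_on with
    | empty => simp
    | insert j s hj ih =>
      have h0 : polar Q (H.pr j x) (∑ i ∈ s, H.pr i x) = 0 := by
        rw [← polarBilin_apply', map_sum]
        refine Finset.sum_eq_zero fun i hi => ?_
        rw [polarBilin_apply']
        exact H.orth j i (fun e => hj (e ▸ hi)) _ (H.pr_mem j x) _ (H.pr_mem i x)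
      rw [Finset.sum_insert hj, Finset.sum_insert hj, map_add_polar, h0, add_zero, ih]
  conv_lhs => rw [← H.sum_pr x]
  exact key Finset.univ

theorem exists_ne_of_wide {a : V} (ha : Wide D a) (i : Fin 3) : ∃ j, j ≠ i ∧ H.pr j a ≠ 0 := by
  by_contra hc
  push Not at hc
  refine ha i ?_
  have : a = H.pr i a := H.ext_pr fun j => by
    rcases eq_or_ne j i with rfl | hj
    · rw [H.pr_self (H.pr_mem j a)]
    · rw [hc j hj, H.pr_other (H.pr_mem i a) hj]
  rw [this]; exact H.pr_mem i a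

theorem wide_of_two {a : V} {i j : Fin 3} (hij : i ≠ j) (hi : H.pr i a ≠ 0) (hj : H.pr j a ≠ 0) : Wide D a := by
  intro l hl
  rcases eq_or_ne i l with rfl | hil
  · exact hj (H.pr_other hl hij.symm)
  · exact hi (H.pr_other hl hil)

theorem exists_pr_ne {a : V} (ha : a ≠ 0) : ∃ i, H.pr i a ≠ 0 := by
  by_contra hc
  push Not at hc
  exact ha (H.ext_pr fun i => by rw [hc i, map_zero])

omit [FiniteDimensional F V] in
theorem rO_block {i j : Fin 3} {c : V} (hc : c ∈ D j) {v : V} (hv : v ∈ D i) :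
    (rO Q c : V ≃ₗ[F] V) v ∈ D i := by
  rcases eq_or_ne j i with rfl | hne
  · rw [rO_app]; exact (D j).sub_mem hv ((D j).smul_mem _ hc)
  · rw [rO_fix (H.orth j i hne c hc v hv)]; exact hv

variable (hX : Over D X)
include hX

theorem pair_mem {i j : Fin 3} {c f : V} (hc : c ∈ D i) (hf : f ∈ D j) (hQc : Q c ≠ 0) (h : Q f = Q c) :
    rO Q c * rO Q f ∈ X := by
  refine hX.stab _ (rO_mul_mem H.nQ hQc h) fun l => ⟨l, fun v hv => ?_⟩
  rw [Subgroup.coe_mul, mul_app]
  exact H.rO_block hc (H.rO_block hf hv)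

variable [Finite F]

theorem sie_mem_block {i : Fin 3} {u w : V} (huD : u ∈ D i) (hwD : w ∈ D i) (hu : Q u = 0)
    (hw : polar Q u w = 0) (hn : 5 ≤ finrank F V) : sie u w hu hw ∈ X := by
  refine hX.stab _ (by rw [← sieGroup_eq_commutator H.nQ hn]; exact sie_mem hu hw) fun l => ⟨l, fun v hv => ?_⟩
  rcases eq_or_ne i l with rfl | hne
  · rw [sie_app]; exact (D i).sub_mem ((D i).add_mem hv ((D i).smul_mem _ huD)) ((D i).smul_mem _ hwD)
  · rw [sie_fix' hu hw (H.orth i l hne u huD v hv) (H.orth i l hne w hwD v hv)]; exact hv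

theorem sInF_block {i : Fin 3} {u w : V} (huD : u ∈ D i) (hwD : w ∈ D i) (hu : Q u = 0)
    (hw : polar Q u w = 0) (hn : 5 ≤ finrank F V) : SInF X u w := fun c =>
  ⟨hu, by rw [polar_smul_right', hw, mul_zero],
    H.sie_mem_block hX huD ((D i).smul_mem c hwD) hu (by rw [polar_smul_right', hw, mul_zero]) hn⟩

omit hX in
omit [Finite F] in
theorem five_le : 5 ≤ finrank F V := by
  set i : Fin 3 := ⟨0, by omega⟩
  set j : Fin 3 := ⟨1, by omega⟩
  have hij : i ≠ j := by simp [i, j]
  have hle : D i ⊓ D j = ⊥ := eq_bot_iff.2 fun x hx => by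
    have h1 := H.pr_other (i := i) hx.2 hij
    rw [H.pr_self hx.1] at h1
    exact h1 ▸ Submodule.zero_mem _
  have h1 := Submodule.finrank_sup_add_finrank_inf_eq (D i) (D j)
  rw [hle, finrank_bot, H.rk, H.rk] at h1
  have h2 := Submodule.finrank_le (D i ⊔ D j)
  omega

/-- A singular vector of a block as a vector for a centre fixed by its unipotents. -/
theorem exists_sing_vec {a b : V} (h : SInF X a b) {l : Fin 3} {d : V} (hdl : d ∈ D l) (hd0 : d ≠ 0)
    (hd : Q d = 0) (hda : polar Q d a = 0) (hfix : ∀ v ∈ D l, polar Q d v = 0 → polar Q v a = 0)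
    (hne : polar Q d b ≠ 0 ∨ ∃ v ∈ D l, polar Q d v = 0 ∧ polar Q v b ≠ 0) : SInF X a d := by
  have key : ∀ v ∈ D l, polar Q d v = 0 →
      SInF X a ((polar Q v b - Q v * polar Q d b) • d - polar Q d b • v) := fun v hvl hdv => by
    refine (h.diff (H.sie_mem_block hX hdl hvl hd hdv H.five_le)
      (sie_fix' hd hdv hda (hfix v hvl hdv))).congr rfl ?_
    rw [sie_app]
    abel
  by_cases hγ : polar Q d b = 0
  · obtain ⟨v, hvl, hdv, hvb⟩ := hne.resolve_left (not_not.2 hγ)
    refine ((key v hvl hdv).smul (polar Q v b)⁻¹).congr rfl ?_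
    rw [hγ, mul_zero, sub_zero, zero_smul, sub_zero, smul_smul, inv_mul_cancel₀ hvb, one_smul]
  · obtain ⟨f, -, -, -, C, hC, hCn, hCd, hCp, -⟩ := exists_hyp_at H.nQ (H.nd l) hdl hd0 hd
    have : Nontrivial C := Module.finrank_pos_iff.1 (show 0 < finrank F C by have := H.rk l; omega)
    obtain ⟨⟨x, hx⟩, hx0⟩ := exists_ne (0 : C)
    obtain ⟨⟨y, hy⟩, hxy⟩ := hCn.exists_polar_ne hx0
    rw [polar_restr] at hxy
    have hdx := (hCp x hx).1
    have hdy := (hCp y hy).1
    have h1 := key x (hC hx) hdx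
    have h2 := key y (hC hy) hdy
    have h3 := key (x + y) ((D l).add_mem (hC hx) (hC hy)) (by rw [polar_add_right, hdx, hdy, add_zero])
    have hc : -(polar Q x y * polar Q d b) ≠ 0 := neg_ne_zero.2 (mul_ne_zero hxy hγ)
    refine (((h3.sub h1).sub h2).smul (-(polar Q x y * polar Q d b))⁻¹).congr rfl ?_
    rw [polar_add_left, map_add_polar]
    rw [show (polar Q x b + polar Q y b - (Q x + Q y + polar Q x y) * polar Q d b) • d - polar Q d b • (x + y)
        - ((polar Q x b - Q x * polar Q d b) • d - polar Q d b • x)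
        - ((polar Q y b - Q y * polar Q d b) • d - polar Q d b • y) = (-(polar Q x y * polar Q d b)) • d by
      module, smul_smul, inv_mul_cancel₀ hc, one_smul]

/-- A block where the centre is singular and the vector is not proportional to it. -/
theorem goal_of_singular {a b : V} (ha : Wide D a) (h : SInF X a b) (l : Fin 3) (hal : Q (H.pr l a) = 0)
    (hb : H.pr l b ∉ Submodule.span F {H.pr l a}) : Goal D X := by
  suffices hsuf : ∃ d ∈ D l, d ≠ 0 ∧ Q d = 0 ∧ SInF X a d by
    obtain ⟨d, hdl, hd0, hd, hin⟩ := hsuf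
    exact ⟨l, d, a, hdl, hd0, hd, ha l, hin.swap hd⟩
  rcases eq_or_ne (H.pr l a) 0 with h0 | h0
  · have hfix : ∀ v ∈ D l, polar Q v a = 0 := fun v hv => by rw [← H.polar_pr hv, h0, polar_zero_right]
    obtain ⟨d, hdl, hd, hdb⟩ : ∃ d ∈ D l, Q d = 0 ∧ polar Q d b ≠ 0 := by
      by_contra hc
      push Not at hc
      have hle : D l ≤ perp Q (Submodule.span F {b}) := le_of_singular (H.nd l) (by rw [H.rk]; omega) _
        fun v hv hqv => (mem_perp_span_singleton Q).2 (by rw [polar_comm]; exact hc v hv hqv)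
      refine hb ?_
      rw [show H.pr l b = 0 from
        H.pr_of_perp fun y hy => by rw [polar_comm]; exact (mem_perp_span_singleton Q).1 (hle hy)]
      exact Submodule.zero_mem _
    have hd0 : d ≠ 0 := fun e => hdb (by rw [e, polar_zero_left])
    exact ⟨d, hdl, hd0, hd, H.exists_sing_vec hX h hdl hd0 hd (hfix d hdl) (fun v hv _ => hfix v hv) (Or.inl hdb)⟩
  · refine ⟨_, H.pr_mem l a, h0, hal, H.exists_sing_vec hX h (H.pr_mem l a) h0 hal ?_ (fun v hv hdv => ?_) ?_⟩
    · rw [← H.polar_pr (H.pr_mem l a), polar_self', hal, mul_zero]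
    · rw [← H.polar_pr hv, polar_comm]; exact hdv
    · by_contra hc
      push Not at hc
      obtain ⟨f, hfl, -, hdf, -⟩ := exists_hyp_at H.nQ (H.nd l) (H.pr_mem l a) h0 hal
      refine hb ?_
      have hz : H.pr l b = polar Q f b • H.pr l a := by
        refine sub_eq_zero.1 (Subtype.ext_iff.1 ((H.nd l) ⟨_, (D l).sub_mem (H.pr_mem l b)
          ((D l).smul_mem (polar Q f b) (H.pr_mem l a))⟩ fun x => ?_))
        have h1 := hc.2 ((x : V) - polar Q (H.pr l a) x • f) ((D l).sub_mem x.2 ((D l).smul_mem _ hfl))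
          (by rw [polar_sub_right, polar_smul_right', hdf, mul_one, sub_self])
        rw [polar_sub_left, polar_smul_left', sub_eq_zero] at h1
        rw [polar_restr, polar_sub_left, polar_smul_left', polar_comm, H.polar_pr x.2, h1]
        ring
      rw [hz]
      exact Submodule.smul_mem _ _ (Submodule.mem_span_singleton_self _)

/-- An element of `X` fixing one block pointwise and carrying a second to a third. -/
theorem exists_move {l i r : Fin 3} (hli : l ≠ i) (hlr : l ≠ r) (hir : i ≠ r) :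
    ∃ π ∈ X, (∀ v ∈ D l, (π : V ≃ₗ[F] V) v = v) ∧ ∀ v ∈ D i, (π : V ≃ₗ[F] V) v ∈ D r := by
  obtain ⟨e, he⟩ := H.isom i r
  let Pi : V →ₗ[F] D i := (H.pr i).codRestrict (D i) (H.pr_mem i)
  let Pr : V →ₗ[F] D r := (H.pr r).codRestrict (D r) (H.pr_mem r)
  let s : V →ₗ[F] V := LinearMap.id - H.pr i - H.pr r + (D r).subtype ∘ₗ e.toLinearMap ∘ₗ Pi +
    (D i).subtype ∘ₗ e.symm.toLinearMap ∘ₗ Pr
  have hs : ∀ x, s x = x - H.pr i x - H.pr r x + (e (Pi x) : V) + (e.symm (Pr x) : V) := fun x => rfl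
  have hperp : ∀ (x : V) (j : Fin 3), j = i ∨ j = r → ∀ v ∈ D j, polar Q v (x - H.pr i x - H.pr r x) = 0 := by
    rintro x j (rfl | rfl) v hv
    · rw [polar_sub_right, H.polar_sub_pr hv, H.orth j r hir v hv _ (H.pr_mem r x), sub_zero]
    · rw [sub_right_comm, polar_sub_right, H.polar_sub_pr hv, H.orth j i hir.symm v hv _ (H.pr_mem i x), sub_zero]
  have hQs : ∀ x, Q (s x) = Q x := by
    intro x
    have h1 : Q (e.symm (Pr x) : V) = Q (H.pr r x) := by
      conv_rhs => rw [show H.pr r x = ((e (e.symm (Pr x)) : D r) : V) by rw [e.apply_symm_apply]; rfl, he]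
    have h2 : Q (e (Pi x) : V) = Q (H.pr i x) := he (Pi x)
    have ea : ∀ y z : V, y ∈ D r → z ∈ D i →
        Q (x - H.pr i x - H.pr r x + y + z) = Q (x - H.pr i x - H.pr r x) + Q y + Q z := fun y z hy hz => by
      rw [map_add_polar, map_add_polar, polar_add_left, polar_comm (⇑Q) _ y, hperp x r (Or.inr rfl) y hy,
        polar_comm (⇑Q) _ z, hperp x i (Or.inl rfl) z hz, H.orth r i hir.symm y hy z hz]
      ring
    calc Q (s x) = Q (x - H.pr i x - H.pr r x) + Q (H.pr r x) + Q (H.pr i x) := by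
          rw [hs, ea _ _ (e (Pi x)).2 (e.symm (Pr x)).2, h1, h2]; ring
      _ = Q x := by rw [← ea _ _ (H.pr_mem r x) (H.pr_mem i x)]; congr 1; abel
  set σ := H.nQ.ofLinear s hQs with hσ
  obtain ⟨ρ, hρ, hmem⟩ := exists_corr H.nQ H.five_le (H.nd r) (by rw [H.rk]; omega) σ
  have hρfix : ∀ j, j ≠ r → ∀ v ∈ D j, (ρ : V ≃ₗ[F] V) v = v := fun j hj v hv =>
    hρ v fun w hw => H.orth r j hj.symm w hw v hv
  have hσfix : ∀ j, j ≠ r → j ≠ i → ∀ v ∈ D j, (σ : V ≃ₗ[F] V) v = v := fun j hjr hji v hv => by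
    rw [hσ, Nondeg.ofLinear_app, hs]
    have h1 : Pi v = 0 := Subtype.ext (H.pr_other hv hji.symm)
    have h2 : Pr v = 0 := Subtype.ext (H.pr_other hv hjr.symm)
    rw [h1, h2, H.pr_other hv hji.symm, H.pr_other hv hjr.symm]
    simp
  have hσi : ∀ v ∈ D i, (σ : V ≃ₗ[F] V) v ∈ D r := fun v hv => by
    rw [hσ, Nondeg.ofLinear_app, hs]
    have h2 : Pr v = 0 := Subtype.ext (H.pr_other hv hir.symm)
    rw [h2, H.pr_self hv, H.pr_other hv hir.symm]
    simp
  have hσr : ∀ v ∈ D r, (σ : V ≃ₗ[F] V) v ∈ D i := fun v hv => by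
    rw [hσ, Nondeg.ofLinear_app, hs]
    have h1 : Pi v = 0 := Subtype.ext (H.pr_other hv hir)
    rw [h1, H.pr_self hv, H.pr_other hv hir]
    simp
  have hρr : ∀ v ∈ D r, (ρ : V ≃ₗ[F] V) v ∈ D r := fun v hv => by
    have h := H98.OrthMax.perp_invariant ρ (W := perp Q (D r)) (fun w hw => by rw [hρ w hw]; exact hw) v
      (by rw [H.nQ.perp_perp]; exact hv)
    rwa [H.nQ.perp_perp] at h
  refine ⟨σ * ρ, hX.stab _ hmem fun j => ?_, fun v hv => ?_, fun v hv => ?_⟩
  · by_cases hji : j = i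
    · subst hji
      exact ⟨r, fun v hv => by rw [Subgroup.coe_mul, mul_app, hρfix j hir v hv]; exact hσi v hv⟩
    by_cases hjr : j = r
    · subst hjr
      exact ⟨i, fun v hv => by rw [Subgroup.coe_mul, mul_app]; exact hσr _ (hρr v hv)⟩
    exact ⟨j, fun v hv => by rw [Subgroup.coe_mul, mul_app, hρfix j hjr v hv, hσfix j hjr hji v hv]; exact hv⟩
  · rw [Subgroup.coe_mul, mul_app, hρfix l hlr v hv, hσfix l hlr hli v hv]
  · rw [Subgroup.coe_mul, mul_app, hρfix i hir v hv]
    exact hσi v hv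



omit hX in
omit [Finite F] in
theorem exists_sing_polar_ne {r : Fin 3} {v : V} (hv : v ∈ D r) (hv0 : v ≠ 0) [Finite F] :
    ∃ d ∈ D r, Q d = 0 ∧ polar Q d v ≠ 0 := by
  by_contra hc
  push Not at hc
  have hle : D r ≤ perp Q (Submodule.span F {v}) := le_of_singular (H.nd r) (by rw [H.rk]; omega) _
    fun x hx hqx => (mem_perp_span_singleton Q).2 (by rw [polar_comm]; exact hc x hx hqx)
  exact hv0 (congrArg Subtype.val ((H.nd r) ⟨v, hv⟩ fun x => by
    rw [polar_restr]; exact (mem_perp_span_singleton Q).1 (hle x.2)))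

omit hX in
theorem exists_sing (r : Fin 3) : ∃ d ∈ D r, d ≠ 0 ∧ Q d = 0 := by
  obtain ⟨⟨d, hd⟩, hd0, hqd⟩ := (H.nd r).exists_singular (by rw [H.rk]; omega)
  exact ⟨d, hd, fun e => hd0 (Subtype.ext e), hqd⟩

include hX

/-- One vector of a block gives the whole block. -/
theorem row {l r : Fin 3} (hlr : l ≠ r) {u v : V} (hu : u ∈ D l) (hv : v ∈ D r) (hv0 : v ≠ 0) (h : SInF X u v) :
    ∀ x ∈ D r, SInF X u x := by
  have spread : ∀ d b : V, d ∈ D r → Q d = 0 → SInF X u b → polar Q d b ≠ 0 → SInF X u d :=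
    fun d b hdr hd hb hne => H.exists_sing_vec hX hb hdr (fun e => hne (by rw [e, polar_zero_left])) hd
      (H.orth r l hlr.symm d hdr u hu) (fun w hw _ => H.orth r l hlr.symm w hw u hu) (Or.inl hne)
  obtain ⟨d, hdr, hd, hdv⟩ := H.exists_sing_polar_ne hv hv0
  have hin := spread d v hdr hd h hdv
  have hd0 : d ≠ 0 := fun e => hdv (by rw [e, polar_zero_left])
  let S : Submodule F V :=
    { carrier := {x | SInF X u x}
      add_mem' := fun ha hb => ha.add hb
      zero_mem' := sInF_zero h.singular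
      smul_mem' := fun c x hx => hx.smul c }
  refine le_of_singular (H.nd r) (by rw [H.rk]; omega) S fun x hx hqx => ?_
  rcases eq_or_ne x 0 with rfl | hx0
  · exact S.zero_mem
  obtain ⟨⟨f, hfr⟩, hf, h1, h2⟩ := exists_common_partner (H.nd r) (by rw [H.rk]; omega)
    (u := ⟨d, hdr⟩) (u' := ⟨x, hx⟩) (fun e => hd0 (congrArg Subtype.val e))
    (fun e => hx0 (congrArg Subtype.val e)) hd hqx
  rw [polar_restr] at h1 h2
  rw [restr_apply] at hf
  exact spread x f hx hqx (spread f d hfr hf hin (by rw [polar_comm]; exact h1)) h2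

theorem rel_of_one {l r : Fin 3} (hlr : l ≠ r) {u v : V} (hu : u ∈ D l) (hu0 : u ≠ 0) (hqu : Q u = 0)
    (hv : v ∈ D r) (hv0 : v ≠ 0) (h : SInF X u v) : Rel D X l r ∧ Rel D X r l := by
  have hrow := H.row hX hlr hu hv hv0 h
  have hrl : Rel D X r l := fun d hd hqd x hx => by
    rcases eq_or_ne d 0 with rfl | hd0
    · exact fun c => sIn_zero_left _
    · exact H.row hX hlr.symm hd hu hu0 ((hrow d hd).swap hqd) x hx
  refine ⟨fun u' hu' hqu' x hx => ?_, hrl⟩
  rcases eq_or_ne u' 0 with rfl | hu'0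
  · exact fun c => sIn_zero_left _
  obtain ⟨d, hd, hd0, hqd⟩ := H.exists_sing r
  exact H.row hX hlr hu' hd hd0 ((hrl d hd hqd u' hu').swap hqu') x hx

theorem rel_move {l r s : Fin 3} (h : Rel D X l r) (hlr : l ≠ r) (hls : l ≠ s) (hrs : r ≠ s) :
    Rel D X l s ∧ Rel D X s l := by
  obtain ⟨π, hπ, hπl, hπr⟩ := H.exists_move hX hlr hls hrs
  obtain ⟨u, hu, hu0, hqu⟩ := H.exists_sing l
  obtain ⟨d, hd, hd0, -⟩ := H.exists_sing r
  exact H.rel_of_one hX hls hu hu0 hqu (hπr d hd) (fun e => hd0 ((π : V ≃ₗ[F] V).map_eq_zero_iff.1 e))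
    (((h u hu hqu d hd).conj hπ).congr (hπl u hu) rfl)

/-- An Eichler element with centre in a block and vector outside it gives everything. -/
theorem sieGroup_le_of_goal (h : Goal D X) : sieGroup Q ≤ X := by
  obtain ⟨l, u, v, hu, hu0, hqu, hv, huv⟩ := h
  have hn := H.five_le
  obtain ⟨r, hrl, hr⟩ : ∃ r, r ≠ l ∧ H.pr r v ≠ 0 := by
    by_contra hc
    push Not at hc
    refine hv ?_
    have : v = H.pr l v := H.ext_pr fun j => by
      rcases eq_or_ne j l with rfl | hj
      · rw [H.pr_self (H.pr_mem j v)]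
      · rw [hc j hj, H.pr_other (H.pr_mem l v) hj]
    rw [this]; exact H.pr_mem l v
  obtain ⟨d, hdr, hd, hdv⟩ := H.exists_sing_polar_ne (H.pr_mem r v) hr
  have hd0 : d ≠ 0 := fun e => hdv (by rw [e, polar_zero_left])
  rw [H.polar_pr hdr] at hdv
  have hin := H.exists_sing_vec hX huv hdr hd0 hd (H.orth r l hrl d hdr u hu)
    (fun w hw _ => H.orth r l hrl w hw u hu) (Or.inl hdv)
  obtain ⟨hlr', hrl'⟩ := H.rel_of_one hX hrl.symm hu hu0 hqu hdr hd0 hin
  have hl : ∀ s, s ≠ l → Rel D X l s ∧ Rel D X s l := fun s hs => by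
    rcases eq_or_ne r s with rfl | hrs
    · exact ⟨hlr', hrl'⟩
    · exact H.rel_move hX hlr' hrl.symm hs.symm hrs
  have hall : ∀ s s', s ≠ s' → Rel D X s s' := fun s s' hss => by
    rcases eq_or_ne s l with rfl | hs
    · exact (hl s' hss.symm).1
    rcases eq_or_ne s' l with rfl | hs'
    · exact (hl s hss).2
    exact (H.rel_move hX (hl s hs).2 hs hss hs'.symm).1
  have hfull : ∀ i u, u ∈ D i → Q u = 0 → H98.OrthMax.Full X u := by
    intro i u hu hqu w _ hw
    let S : Submodule F V :=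
      { carrier := {x | SInF X u x}
        add_mem' := fun ha hb => ha.add hb
        zero_mem' := sInF_zero hqu
        smul_mem' := fun c x hx => hx.smul c }
    have hwS : w ∈ S := by
      rw [← H.sum_pr w]
      refine S.sum_mem fun j _ => ?_
      rcases eq_or_ne i j with rfl | hij
      · exact H.sInF_block hX hu (H.pr_mem i w) hqu (by rw [H.polar_pr hu]; exact hw) hn
      · exact hall i j hij u hu hqu _ (H.pr_mem j w)
    exact hwS.sIn.2.2
  obtain ⟨f, hfl, hf, huf, -⟩ := exists_hyp_at H.nQ (H.nd l) hu hu0 hqu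
  exact H98.OrthMax.sieGroup_le_of_pair H.nQ (by omega) (hfull l u hu hqu) (hfull l f hfl hf) hqu hf
    (by rw [huf]; exact one_ne_zero)

end BDec

end Cfsg.Agent.H69.OmegaTwelve
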