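import Cfsg.Agent.H98.SubfieldOrth.Odd
import Cfsg.Agent.H97.OmegaEight.SubOdd

/-!
Odd characteristic, dimension twelve, odd index: an overgroup element not preserving the rational structure
yields a new parameter.
-/

set_option autoImplicit false

namespace Cfsg.Agent.H69.OmegaTwelve

open QuadraticMap Module Cfsg.Agent.Orthogonal Cfsg.Agent.H98.SubfieldOrth
open Cfsg.Agent.H98.SubfieldOrth.RatStr

variable {F V : Type*} [Field F] [Finite F] [AddCommGroup V] [Module F V] [FiniteDimensional F V]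
  {Q : QuadraticForm F V} {F₀ : Subfield F}

omit [Finite F] in
/-- Commuting involutions split each other's eigenspaces. -/
theorem finrank_eig_split (h2 : (2 : F) ≠ 0) {s u : O Q} (hu : u * u = 1) (hsu : Commute s u) (ε : F) :
    finrank F (eig s ε) =
      finrank F ↥(eig s ε ⊓ eig u 1) + finrank F ↥(eig s ε ⊓ eig u (-1)) := by
  have hswap : ∀ v : V, (s : V ≃ₗ[F] V) ((u : V ≃ₗ[F] V) v) = (u : V ≃ₗ[F] V) ((s : V ≃ₗ[F] V) v) := fun v =>
    congrArg (fun k : O Q => (k : V ≃ₗ[F] V) v) hsu.eq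
  have hdisj : (eig s ε ⊓ eig u 1) ⊓ (eig s ε ⊓ eig u (-1)) = ⊥ := eq_bot_iff.2 fun v hv =>
    (isCompl_eig hu h2).disjoint.le_bot ⟨hv.1.2, hv.2.2⟩
  have hsup : (eig s ε ⊓ eig u 1) ⊔ (eig s ε ⊓ eig u (-1)) = eig s ε := by
    refine le_antisymm (sup_le inf_le_left inf_le_left) fun v hv => ?_
    have huv : (u : V ≃ₗ[F] V) v ∈ eig s ε := by
      rw [mem_eig, hswap, mem_eig.1 hv, map_smul]
    refine Submodule.mem_sup.2 ⟨(2 : F)⁻¹ • (v + (u : V ≃ₗ[F] V) v), ⟨Submodule.smul_mem _ _ (add_mem hv huv),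
      Submodule.smul_mem _ _ ?_⟩, (2 : F)⁻¹ • (v - (u : V ≃ₗ[F] V) v), ⟨Submodule.smul_mem _ _ (sub_mem hv huv),
      Submodule.smul_mem _ _ ?_⟩, ?_⟩
    · rw [mem_eig, map_add, invol_app hu, one_smul, add_comm]
    · rw [mem_eig, map_sub, invol_app hu, neg_one_smul, neg_sub]
    · rw [← smul_add, add_add_sub_cancel, ← two_smul F, inv_smul_smul₀ h2]
  have h := Submodule.finrank_sup_add_finrank_inf_eq (eig s ε ⊓ eig u 1) (eig s ε ⊓ eig u (-1))
  rw [hsup, hdisj, finrank_bot] at h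
  omega

variable {R : RatStr Q F₀} {X : Subgroup (O Q)} (hQ : Nondeg Q) (h2 : (2 : F) ≠ 0) (hn : finrank F V = 12)
  (hX : R.Over X) (hT : R.NoNew X) (hsqF : ∀ c : F, c ^ 2 ∈ F₀ → c ∈ F₀)
include hQ h2 hn hX hT hsqF

omit hQ h2 hX hT [Finite F] in
theorem ratEl_of_stab_twelve {a : O Q} (ha : R.Stab a) : R.RatEl a := by
  obtain ⟨c, hc, h⟩ := ha
  exact ratEl_of_stab hc (hsqF c (stab_sq (by omega) hc h)) h

omit hsqF in
/-- An element carrying a rational involution with two eigenspaces of dimension at least three to a rational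
one preserves the rational structure. -/
theorem stab_of_invol_twelve {g s w : O Q} (hg : g ∈ X) (hsR : R.RatEl s) (hs : s * s = 1) (hwR : R.RatEl w)
    (hw : w * w = 1) (h : g * s = w * g) (hk1 : 3 ≤ finrank F (eig s (-1 : F)))
    (hk2 : finrank F (eig s (-1 : F)) ≤ 9) : R.Stab g := by
  have := R.finiteDimensional
  have hwk := finrank_eig_of_conj h (-1 : F)
  have hws := finrank_eig_add h2 hw
  obtain ⟨⟨y, hyE⟩, hy0, hy⟩ := (nondeg_eig₀ h2 hsR hs (Or.inr rfl)).exists_singular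
    (by rw [finrank_eig₀ h2 hsR hs (Or.inr rfl)]; omega)
  rw [restr_apply] at hy
  refine Cfsg.Agent.H97.OmegaEight.Sub.stab_of_perp hQ (by omega) hX hT hg (fun e => hy0 (Subtype.ext e)) hy
    (nondeg_eig₀ h2 hwR hw (Or.inl rfl)) (by rw [finrank_eig₀ h2 hwR hw (Or.inl rfl)]; omega) fun c hc => ?_
  refine eig_orth h2 (Or.inl rfl) (mem_eig.2 (R.mem_eig₀.1 hc)) (mem_eig.2 ?_)
  rw [app_conj h, R.mem_eig₀.1 hyE, map_smul]

/-- One round: a further pair of conjugate rational involutions. -/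
theorem round_twelve {g z₀' z₀ : O Q} (hg : g ∈ X) (hR₀' : R.RatEl z₀') (hi₀' : z₀' * z₀' = 1)
    (hR₀ : R.RatEl z₀) (hi₀ : z₀ * z₀ = 1) (hconj : g * z₀' = z₀ * g) (jr : ℕ)
    (hj : (jr = 3 ∧ finrank F (eig z₀' (-1 : F)) = 0) ∨ (jr = 4 ∧ finrank F (eig z₀' (-1 : F)) = 2)) :
    ∃ z' z : O Q, R.RatEl z' ∧ z' * z' = 1 ∧ R.RatEl z ∧ z * z = 1 ∧ g * z' = z * g ∧
      Commute z z₀ ∧ Commute z' z₀' ∧ (∀ v ∈ eig z₀ (-1 : F), (z : V ≃ₗ[F] V) v = v) ∧
      Even (finrank F (eig z' (-1 : F))) ∧ 1 ≤ finrank F (eig z' (-1 : F)) ∧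
      finrank F (eig z' (-1 : F)) + 2 * jr ≤ 16 := by
  have := R.finiteDimensional
  have hO : Finite (O Q) := finite_O
  have hd0 : finrank F₀ R.V₀ = finrank F V := R.finrank_eq
  have hsum' := finrank_eig_add h2 hi₀'
  have hsum := finrank_eig_add h2 hi₀
  have hd₀ : finrank F (eig z₀ (-1 : F)) = finrank F (eig z₀' (-1 : F)) := (finrank_eig_of_conj hconj _).symm
  obtain ⟨r, hrc, hrR, hrr, hdr, hrfix, -⟩ :=
    exists_negation hQ h2 (nondeg_eig₀ h2 hR₀' hi₀' (Or.inl rfl)) jr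
      (by rw [finrank_eig₀ h2 hR₀' hi₀' (Or.inl rfl)]; omega)
  obtain ⟨t, htc, htR, htt, hdt, htfix, -⟩ :=
    exists_negation hQ h2 (nondeg_eig₀ h2 hR₀ hi₀ (Or.inl rfl)) 2
      (by rw [finrank_eig₀ h2 hR₀ hi₀ (Or.inl rfl)]; omega)
  have hfixneg : ∀ {s w : O Q}, R.RatEl w → w * w = 1 →
      (∀ v : R.V₀, v ∈ perp R.Q₀ (R.eig₀ w 1) → (s : V ≃ₗ[F] V) v = v) →
      ∀ v ∈ eig w (-1 : F), (s : V ≃ₗ[F] V) v = v := by
    intro s w hwR hw hfix v hv
    have hle : eig w (-1 : F) ≤ eig s 1 := (eig_le_spanF h2 hwR hw (Or.inr rfl)).trans <| by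
      rw [spanF, Submodule.span_le]
      rintro _ ⟨x, hx, rfl⟩
      rw [SetLike.mem_coe, mem_eig, one_smul]
      refine hfix x fun c hc => Subtype.ext ?_
      rw [R.polar_coe, ZeroMemClass.coe_zero]
      exact eig_orth h2 (Or.inl rfl) (mem_eig.2 (R.mem_eig₀.1 hc)) (mem_eig.2 (R.mem_eig₀.1 hx))
    simpa using mem_eig.1 (hle hv)
  have hrf := hfixneg hR₀' hi₀' hrfix
  have htf := hfixneg hR₀ hi₀ htfix
  have hrX : r ∈ X := hX.rat r hrc hrR
  have htX : t ∈ X := hX.rat t htc htR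
  set r' := g * r * g⁻¹ with hr'
  have hr'X : r' ∈ X := mul_mem (mul_mem hg hrX) (inv_mem hg)
  have hr'r' : r' * r' = 1 := by
    rw [hr', show g * r * g⁻¹ * (g * r * g⁻¹) = g * (r * r) * g⁻¹ by group, hrr, mul_one, mul_inv_cancel]
  have hr'f : ∀ v ∈ eig z₀ (-1 : F), (r' : V ≃ₗ[F] V) v = v := by
    intro v hv
    have hv' : v ∈ eig (g * z₀' * g⁻¹) (-1 : F) := by rwa [hconj, mul_inv_cancel_right]
    rw [eig_conj] at hv'
    obtain ⟨x, hx, rfl⟩ := hv'
    rw [hr', Subgroup.coe_mul, Subgroup.coe_mul, mul_app, mul_app, LinearEquiv.coe_coe, Subgroup.coe_inv]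
    show (g : V ≃ₗ[F] V) ((r : V ≃ₗ[F] V) ((g : V ≃ₗ[F] V).symm ((g : V ≃ₗ[F] V) x))) = _
    rw [LinearEquiv.symm_apply_apply, hrf x hx]
  -- dimensions of the negated spaces
  have edt : finrank F (eig t (-1 : F)) = 4 := by rw [← finrank_eig₀ h2 htR htt (Or.inr rfl)]; omega
  have edr₀ : finrank F (eig r (-1 : F)) = 2 * jr := by rw [← finrank_eig₀ h2 hrR hrr (Or.inr rfl)]; omega
  have edr : finrank F (eig r' (-1 : F)) = 2 * jr := by rw [hr', finrank_eig_conj, edr₀]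
  obtain ⟨j, hzz, hz1, hzt, hzr, hct, -⟩ := exists_central htt hr'r' fun k hk => by
    have h46 := finrank_eig_conj k t (-1 : F)
    rw [hk, edr, edt] at h46
    omega
  set z := (t * r') ^ j with hz
  have hzX : z ∈ X := pow_mem (mul_mem htX hr'X) j
  have hzf : ∀ v ∈ eig z₀ (-1 : F), (z : V ≃ₗ[F] V) v = v := by
    intro v hv
    rw [hz]
    clear * - htf hr'f hv
    induction j with
    | zero => simp
    | succ i ih => rw [pow_succ, Subgroup.coe_mul, mul_app, Subgroup.coe_mul, mul_app, hr'f v hv, htf v hv, ih]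
  -- z is rational
  have hzR : R.RatEl z := ratEl_of_stab_twelve hn hsqF
    (stab_of_invol_twelve hQ h2 hn hX hT hzX htR htt htR htt hzt.eq (by omega) (by omega))
  -- its conjugate is rational
  set z' := g⁻¹ * z * g with hz'
  have hgz : g * z' = z * g := by rw [hz']; group
  have hz'X : z' ∈ X := mul_mem (mul_mem (inv_mem hg) hzX) hg
  have hz'z' : z' * z' = 1 := by
    rw [hz', show g⁻¹ * z * g * (g⁻¹ * z * g) = g⁻¹ * (z * z) * g by group, hzz, mul_one, inv_mul_cancel]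
  have hz'r : Commute z' r := by
    show z' * r = r * z'
    rw [hz', show g⁻¹ * z * g * r = g⁻¹ * (z * r') * g by rw [hr']; group, hzr.eq, hr']
    group
  have hz'R : R.RatEl z' := ratEl_of_stab_twelve hn hsqF
    (stab_of_invol_twelve hQ h2 hn hX hT hz'X hrR hrr hrR hrr hz'r.eq (by omega) (by omega))
  have hzc : Commute z z₀ := commute_of_fix hQ hzz hi₀ hzf
  refine ⟨z', z, hz'R, hz'z', hzR, hzz, hgz, hzc, ?_, hzf, ?_, ?_⟩
  · show z' * z₀' = z₀' * z'
    have e : z₀' = g⁻¹ * z₀ * g := by rw [mul_assoc, ← hconj, inv_mul_cancel_left]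
    rw [hz', e, show g⁻¹ * z * g * (g⁻¹ * z₀ * g) = g⁻¹ * (z * z₀) * g by group, hzc.eq]
    group
  · rw [finrank_eig_of_conj hgz]
    exact Cfsg.Agent.H97.OmegaEight.Sub.invol_even h2 hzz (hX.le hzX)
  rw [finrank_eig_of_conj hgz]
  constructor
  · by_contra h0
    have h00 : eig z (-1 : F) = ⊥ := Submodule.finrank_eq_zero.1 (by omega)
    refine hz1 (O.ext_app fun v => ?_)
    have hmem : v - (z : V ≃ₗ[F] V) v ∈ eig z (-1 : F) := by
      rw [mem_eig, map_sub, invol_app hzz, neg_one_smul, neg_sub]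
    rw [h00, Submodule.mem_bot, sub_eq_zero] at hmem
    exact hmem.symm
  -- the negated space of `z` against that of `t`
  have hzts : Commute (z * t) t := hzt.mul_left (Commute.refl t)
  have hzt2 : z * t * (z * t) = 1 := by rw [hzt.symm.mul_mul_mul_comm, hzz, htt, one_mul]
  have hdzt : finrank F (eig (z * t) (-1 : F)) = 4 ∨ finrank F (eig (z * t) (-1 : F)) = 2 * jr := by
    obtain ⟨k, hk | hk⟩ := hct
    · exact Or.inl (by rw [← hk, finrank_eig_conj, edt])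
    · exact Or.inr (by rw [← hk, finrank_eig_conj, edr])
  have s1 := finrank_eig_split h2 htt hzt (-1 : F)
  have s2 := finrank_eig_split h2 hzz hzt.symm (-1 : F)
  have s3 := finrank_eig_split h2 htt hzts (-1 : F)
  have e1 : eig (z * t) (-1 : F) ⊓ eig t 1 = eig z (-1 : F) ⊓ eig t 1 := by
    ext v
    simp only [Submodule.mem_inf, mem_eig, Subgroup.coe_mul, mul_app]
    exact and_congr_left fun h => by rw [h, one_smul]
  have e2 : eig (z * t) (-1 : F) ⊓ eig t (-1) = eig t (-1 : F) ⊓ eig z 1 := by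
    ext v
    simp only [Submodule.mem_inf, mem_eig, Subgroup.coe_mul, mul_app]
    constructor
    · rintro ⟨h1, h3⟩
      rw [h3, map_smul, neg_one_smul, neg_one_smul, neg_inj] at h1
      exact ⟨h3, by rw [one_smul, h1]⟩
    · rintro ⟨h1, h3⟩
      exact ⟨by rw [h1, map_smul, h3, one_smul], h1⟩
  rw [e1, e2] at s3
  rw [inf_comm (eig t (-1 : F)) (eig z (-1 : F))] at s2
  have hb : finrank F ↥(eig z (-1 : F) ⊓ eig t 1) + finrank F (eig z₀ (-1 : F)) ≤ finrank F (eig t (1 : F)) := by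
    have hle : eig z₀ (-1 : F) ≤ eig t 1 := fun v hv => by rw [mem_eig, one_smul, htf v hv]
    have hdis : eig z (-1 : F) ⊓ eig t 1 ⊓ eig z₀ (-1) = ⊥ := eq_bot_iff.2 fun v hv => by
      have h1 := mem_eig.1 hv.1.1
      rw [hzf v hv.2, neg_one_smul, eq_neg_iff_add_eq_zero, ← two_smul F, smul_eq_zero] at h1
      exact (Submodule.mem_bot F).2 (h1.resolve_left h2)
    have h := Submodule.finrank_sup_add_finrank_inf_eq (eig z (-1 : F) ⊓ eig t 1) (eig z₀ (-1 : F))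
    rw [hdis, finrank_bot] at h
    have h' := Submodule.finrank_mono (sup_le inf_le_right hle :
      eig z (-1 : F) ⊓ eig t 1 ⊔ eig z₀ (-1) ≤ eig t 1)
    omega
  have hts := finrank_eig_add h2 htt
  omega

/-- No new parameters: every element of `X` preserves the rational structure up to a scalar. -/
theorem stab_of_noNew_odd_twelve {g : O Q} (hg : g ∈ X) : R.Stab g := by
  have := R.finiteDimensional
  have h10 : finrank F (eig (1 : O Q) (-1 : F)) = 0 := by
    rw [Submodule.finrank_eq_zero]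
    refine eq_bot_iff.2 fun v hv => (Submodule.mem_bot _).2 ?_
    have h := mem_eig.1 hv
    rw [OneMemClass.coe_one, one_app, neg_smul, one_smul, eq_neg_iff_add_eq_zero, ← two_smul F] at h
    exact (smul_eq_zero.1 h).resolve_left h2
  obtain ⟨z', z, hR', hi', hR, hi, hgz, -, -, -, ⟨m, hm⟩, h1, h10'⟩ :=
    round_twelve hQ h2 hn hX hT hsqF hg ratEl_one (one_mul 1) ratEl_one (one_mul 1) (by simp) 3 (Or.inl ⟨rfl, h10⟩)
  by_cases h39 : 3 ≤ finrank F (eig z' (-1 : F)) ∧ finrank F (eig z' (-1 : F)) ≤ 9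
  · exact stab_of_invol_twelve hQ h2 hn hX hT hg hR' hi' hR hi hgz h39.1 h39.2
  -- a pair negating a plane
  obtain ⟨y', y, hyR', hyi', hyR, hyi, hgy, hy2⟩ : ∃ y' y : O Q, R.RatEl y' ∧ y' * y' = 1 ∧ R.RatEl y ∧
      y * y = 1 ∧ g * y' = y * g ∧ finrank F (eig y' (-1 : F)) = 2 := by
    rcases (show finrank F (eig z' (-1 : F)) = 2 ∨ finrank F (eig z' (-1 : F)) = 10 by omega) with h | h
    · exact ⟨z', z, hR', hi', hR, hi, hgz, h⟩
    -- negate
    let ν : O Q := ⟨LinearEquiv.neg F, fun x => QuadraticMap.map_neg Q x⟩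
    have hν : ∀ v : V, (ν : V ≃ₗ[F] V) v = -v := fun v => rfl
    have hνc : ∀ a : O Q, Commute a ν := fun a => O.ext_app fun v => by
      simp only [Subgroup.coe_mul, mul_app, hν, map_neg]
    have hνν : ν * ν = 1 := O.ext_app fun v => by simp [mul_app, hν]
    have hνR : R.RatEl ν := fun v hv => by rw [hν]; exact R.V₀.neg_mem hv
    refine ⟨z' * ν, z * ν, hR'.mul hνR, by rw [(hνc z').symm.mul_mul_mul_comm, hi', hνν, one_mul], hR.mul hνR,
      by rw [(hνc z).symm.mul_mul_mul_comm, hi, hνν, one_mul],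
      by rw [← mul_assoc, hgz, mul_assoc, (hνc g).eq, mul_assoc], ?_⟩
    have he : eig (z' * ν) (-1 : F) = eig z' (1 : F) := by
      ext v
      simp only [mem_eig, Subgroup.coe_mul, mul_app, hν, map_neg, neg_one_smul, one_smul, neg_inj]
    rw [he]
    have := finrank_eig_add h2 hi'
    omega
  obtain ⟨x', x, hxR', hxi', hxR, hxi, hgx, hc, hc', hxf, ⟨k, hk⟩, hx1, hx8⟩ :=
    round_twelve hQ h2 hn hX hT hsqF hg hyR' hyi' hyR hyi hgy 4 (Or.inr ⟨rfl, hy2⟩)
  by_cases h3 : 3 ≤ finrank F (eig x' (-1 : F))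
  · exact stab_of_invol_twelve hQ h2 hn hX hT hg hxR' hxi' hxR hxi hgx h3 (by omega)
  obtain ⟨hlt, hconj', hle⟩ := combine (g := g) h2 hyR' hyi' hyR hyi hgy hxR' hxi' hxR hxi hgx hc hc' hxf
    (by rw [finrank_eig₀ h2 hxR' hxi' (Or.inr rfl)]; omega)
  have hii : x' * y' * (x' * y') = 1 := by rw [hc'.symm.mul_mul_mul_comm, hxi', hyi', one_mul]
  rw [finrank_eig₀ h2 (hxR'.mul hyR') hii (Or.inr rfl), finrank_eig₀ h2 hyR' hyi' (Or.inr rfl)] at hlt
  rw [finrank_eig₀ h2 (hxR'.mul hyR') hii (Or.inr rfl), finrank_eig₀ h2 hyR' hyi' (Or.inr rfl),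
    finrank_eig₀ h2 hxR' hxi' (Or.inr rfl)] at hle
  exact stab_of_invol_twelve hQ h2 hn hX hT hg (hxR'.mul hyR') hii (hxR.mul hyR)
    (by rw [hc.symm.mul_mul_mul_comm, hxi, hyi, one_mul]) hconj' (by omega) (by omega)

end Cfsg.Agent.H69.OmegaTwelve
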